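import Cfsg.Agent.Lib.Fi22Rep.Data

set_option autoImplicit false
set_option linter.all false
set_option maxRecDepth 20000

namespace CfsgLib.Fi22Rep

open CfsgLib.CosetEnum

theorem test_26 : allFrom test 13 26 = true := by decide +kernel

end CfsgLib.Fi22Rep
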