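import Cfsg.Prelude.Def_Spor_Fi22
import Cfsg.Agent.Lib.CosetEnum.Fi22.Simple
import Cfsg.Agent.Lib.Fi22Rep.Data
import Cfsg.Agent.Lib.Fi22Rep.CheckP0
import Cfsg.Agent.Lib.Fi22Rep.CheckP1
import Cfsg.Agent.Lib.Fi22Rep.CheckP2
import Cfsg.Agent.Lib.Fi22Rep.CheckP3
import Cfsg.Agent.Lib.Fi22Rep.CheckP4
import Cfsg.Agent.Lib.Fi22Rep.CheckP5

set_option autoImplicit false
set_option linter.all false
set_option maxRecDepth 20000
set_option synthInstance.maxSize 4000
set_option synthInstance.maxHeartbeats 400000

/-! `Fi22` embeds in the general linear group of degree 78 over the field with 13 elements. -/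

namespace CfsgLib.Fi22Rep

open CfsgLib.CosetEnum Matrix

local notation "F" => ZMod 13

/-- Fields into a number. -/
def pack : List ℕ → ℕ
  | [] => 0
  | a :: r => a + 65536 * pack r

/-- The first `n` fields of a number. -/
def unpack : ℕ → ℕ → List ℕ
  | 0, _ => []
  | n + 1, a => a % 65536 :: unpack n (a / 65536)

theorem length_unpack : ∀ n a, (unpack n a).length = n
  | 0, _ => rfl
  | n + 1, a => by rw [unpack, List.length_cons, length_unpack]

theorem red_zero (a : ℕ) : red 0 a = 0 := rfl

theorem red_succ (n a : ℕ) : red (n + 1) a = a % 65536 % 13 + 65536 * red n (a / 65536) := by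
  show strict (red n (a / 65536)) (fun r => a % 65536 % 13 + 65536 * r) = _
  rw [strict_eq]

theorem red_eq : ∀ n a, red n a = pack ((unpack n a).map (· % 13))
  | 0, a => rfl
  | n + 1, a => by rw [red_succ, unpack, List.map_cons, pack, red_eq]

theorem unpack_pack : ∀ L : List ℕ, (∀ a ∈ L, a < 65536) → unpack L.length (pack L) = L
  | [], _ => rfl
  | a :: r, h => by
    have ha := h a (by simp)
    rw [List.length_cons, pack, unpack, show (a + 65536 * pack r) % 65536 = a by omega,
      show (a + 65536 * pack r) / 65536 = pack r by omega, unpack_pack r fun b hb => h b (List.mem_cons_of_mem _ hb)]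

theorem accum_nil (v : ℕ) : accum [] v = 0 := rfl

theorem accum_cons (c : ℕ) (m : List ℕ) (v : ℕ) : accum (c :: m) v = v % 65536 * c + accum m (v / 65536) := by
  show strict (accum m (v / 65536)) (fun r => v % 65536 * c + r) = _
  rw [strict_eq]

theorem appP_eq (m : List ℕ) (v : ℕ) : appP m v = red 78 (accum m v) := by
  show strict (accum m v) (fun a => red 78 a) = _
  rw [strict_eq]

theorem appW_cons (x : ℕ) (l : List ℕ) (v : ℕ) : appW (x :: l) v = appP (mats.getD x []) (appW l v) := by
  show strict (appW l v) (fun w => appP (mats.getD x []) w) = _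
  rw [strict_eq]

theorem appW_nil (v : ℕ) : appW [] v = v := rfl

theorem mats_length : mats.length = 12 := rfl

theorem m0_mem : m0 ∈ mats := List.mem_cons_self ..

theorem mats_zero : mats.getD 0 [] = m0 := rfl

attribute [local irreducible] mats m0 accum red appP appW

/-- Packed numbers of a fixed length, by field. -/
def fld (a i : ℕ) : ℕ := a / 65536 ^ i % 65536

theorem getD_unpack : ∀ n a i, i < n → (unpack n a).getD i 0 = fld a i
  | n + 1, a, 0, _ => by simp [unpack, fld]
  | n + 1, a, i + 1, h => by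
    rw [unpack, List.getD_cons_succ, getD_unpack n _ i (by omega), fld, fld, Nat.div_div_eq_div_mul, ← pow_succ']

theorem fld_pack (L : List ℕ) (hL : ∀ a ∈ L, a < 65536) (i : ℕ) (hi : i < L.length) :
    fld (pack L) i = L.getD i 0 := by
  rw [← getD_unpack L.length (pack L) i hi, unpack_pack L hL]

theorem pack_add : ∀ u v : List ℕ, u.length = v.length → pack (List.zipWith (· + ·) u v) = pack u + pack v
  | [], [], _ => rfl
  | a :: r, b :: s, h => by
    simp only [List.zipWith_cons_cons, pack, pack_add r s (by simpa using h)]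
    ring

theorem pack_smul (k : ℕ) : ∀ u : List ℕ, pack (u.map (k * ·)) = k * pack u
  | [] => by simp [pack]
  | a :: r => by simp only [List.map_cons, pack, pack_smul k r]; ring

theorem pack_replicate_zero : ∀ n, pack (List.replicate n 0) = 0
  | 0 => rfl
  | n + 1 => by rw [List.replicate_succ, pack, pack_replicate_zero n]

/-- A column is a packing of residues. -/
theorem good_col {m : List ℕ} (hm : m ∈ mats) : m.length = 78 ∧ ∀ c ∈ m, ∃ L : List ℕ,
    L.length = 78 ∧ (∀ a ∈ L, a < 13) ∧ pack L = c := by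
  have h := List.all_eq_true.mp mats_ok m hm
  simp only [Bool.and_eq_true, decide_eq_true_eq, List.all_eq_true] at h
  refine ⟨h.1, fun c hc => ⟨(unpack 78 c).map (· % 13), by simp [length_unpack], ?_, ?_⟩⟩
  · intro a ha
    obtain ⟨b, -, rfl⟩ := List.mem_map.mp ha
    exact Nat.mod_lt _ (by omega)
  · rw [← red_eq]
    exact Nat.eq_of_beq_eq_true (h.2 c hc)

/-- The weighted column sum, as a list of fields. -/
theorem accum_spec : ∀ (m : List ℕ), (∀ c ∈ m, ∃ L : List ℕ, L.length = 78 ∧ (∀ a ∈ L, a < 13) ∧ pack L = c) →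
    ∀ v, (∀ i, fld v i < 13) → ∃ S : List ℕ, S.length = 78 ∧ (∀ a ∈ S, a ≤ m.length * 144) ∧ pack S = accum m v ∧
      ∀ i < 78, ((S.getD i 0 : ℕ) : F) =
        ∑ j ∈ Finset.range m.length, ((fld v j : ℕ) : F) * ((fld (m.getD j 0) i : ℕ) : F) := by
  intro m
  induction m with
  | nil =>
    intro _ v _
    refine ⟨List.replicate 78 0, by simp, fun a ha => by simp [List.eq_of_mem_replicate ha],
      (by rw [pack_replicate_zero, accum_nil]), fun i hi => ?_⟩
    rw [List.getD_eq_getElem _ _ (by simpa using hi), List.getElem_replicate]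
    simp
  | cons c r ih =>
    intro hm v hv
    obtain ⟨L, hLl, hL13, hLp⟩ := hm c (by simp)
    have hvd : ∀ i, fld (v / 65536) i = fld v (i + 1) := fun i => by
      rw [fld, fld, Nat.div_div_eq_div_mul, ← pow_succ']
    obtain ⟨S, hSl, hSb, hSp, hS⟩ := ih (fun d hd => hm d (List.mem_cons_of_mem _ hd)) (v / 65536)
      (fun i => by rw [hvd]; exact hv _)
    have hk : v % 65536 < 13 := by
      have := hv 0
      simpa [fld] using this
    refine ⟨List.zipWith (· + ·) (L.map (v % 65536 * ·)) S, by simp [hLl, hSl], ?_, ?_, ?_⟩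
    · intro a ha
      obtain ⟨i, hi, rfl⟩ := List.getElem_of_mem ha
      rw [List.getElem_zipWith, List.getElem_map]
      simp only [List.length_zipWith, List.length_map] at hi
      have h1 := hL13 (L[i]'(by omega)) (List.getElem_mem _)
      have h2 := hSb (S[i]'(by omega)) (List.getElem_mem _)
      have h3 : v % 65536 * L[i]'(by omega) ≤ 12 * 12 := Nat.mul_le_mul (by omega) (by omega)
      rw [List.length_cons, add_mul, one_mul]
      omega
    · rw [pack_add _ _ (by simp [hLl, hSl]), pack_smul, hLp, hSp, accum_cons]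
    · intro i hi
      rw [List.getD_eq_getElem _ _ (by simp [hLl, hSl, hi]), List.getElem_zipWith, List.getElem_map,
        List.length_cons, Finset.sum_range_succ']
      have hS' := hS i hi
      rw [List.getD_eq_getElem _ _ (by omega)] at hS'
      push_cast
      rw [hS', add_comm]
      congr 1
      · refine Finset.sum_congr rfl fun j _ => ?_
        rw [hvd, List.getD_cons_succ]
      · rw [List.getD_cons_zero, ← hLp, fld_pack L (fun a ha => lt_trans (hL13 a ha) (by omega)) i (by omega),
          List.getD_eq_getElem _ _ (by omega), show fld v 0 = v % 65536 by simp [fld]]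

/-- A packed vector of residues. -/
def Good (v : ℕ) : Prop := ∃ L : List ℕ, L.length = 78 ∧ (∀ a ∈ L, a < 13) ∧ pack L = v

theorem fld_of_good {v : ℕ} (h : Good v) (i : ℕ) : fld v i < 13 := by
  obtain ⟨L, hl, hL, rfl⟩ := h
  rcases Nat.lt_or_ge i L.length with hi | hi
  · rw [fld_pack L (fun a ha => lt_trans (hL a ha) (by omega)) i hi, List.getD_eq_getElem _ _ hi]
    exact hL _ (List.getElem_mem _)
  · have key : ∀ L : List ℕ, (∀ a ∈ L, a < 65536) → pack L < 65536 ^ L.length := by
      intro L
      induction L with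
      | nil => intro _; simp [pack]
      | cons a r ih =>
        intro h
        have := ih fun b hb => h b (List.mem_cons_of_mem _ hb)
        have := h a (by simp)
        rw [pack, List.length_cons, pow_succ]
        omega
    have h1 := key L fun a ha => lt_trans (hL a ha) (by omega)
    have h2 : pack L < 65536 ^ i := lt_of_lt_of_le h1 (Nat.pow_le_pow_right (by omega) hi)
    simp [fld, Nat.div_eq_of_lt h2]

/-- A packed vector as a column. -/
noncomputable def vec (v : ℕ) : Fin 78 → F := fun i => ((fld v i : ℕ) : F)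

/-- The matrix with the given packed columns. -/
noncomputable def mat (x : ℕ) : Matrix (Fin 78) (Fin 78) F := Matrix.of fun i j => ((fld ((mats.getD x []).getD j 0) i : ℕ) : F)

theorem appP_spec {x : ℕ} (hx : x < 12) {v : ℕ} (hv : Good v) :
    Good (appP (mats.getD x []) v) ∧ vec (appP (mats.getD x []) v) = mat x *ᵥ vec v := by
  have hmem : mats.getD x [] ∈ mats := by
    rw [List.getD_eq_getElem _ _ (show x < mats.length by rw [mats_length]; exact hx)]
    exact List.getElem_mem _
  obtain ⟨hlen, hcols⟩ := good_col hmem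
  obtain ⟨S, hSl, hSb, hSp, hS⟩ := accum_spec _ hcols v (fld_of_good hv)
  have hS16 : ∀ a ∈ S, a < 65536 := fun a ha => by have := hSb a ha; rw [hlen] at this; omega
  have e : appP (mats.getD x []) v = pack (S.map (· % 13)) := by
    rw [appP_eq, ← hSp, red_eq, ← hSl, unpack_pack S hS16]
  have h13 : ∀ a ∈ S.map (· % 13), a < 13 := fun a ha => by
    obtain ⟨b, -, rfl⟩ := List.mem_map.mp ha
    exact Nat.mod_lt _ (by omega)
  refine ⟨⟨S.map (· % 13), by simp [hSl], h13, e.symm⟩, funext fun i => ?_⟩
  show ((fld (appP (mats.getD x []) v) i : ℕ) : F) = _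
  rw [e, fld_pack _ (fun a ha => lt_trans (h13 a ha) (by omega)) i (by simp [hSl]),
    List.getD_eq_getElem _ _ (by simp [hSl]), List.getElem_map, ZMod.natCast_mod]
  have h := hS i i.2
  rw [List.getD_eq_getElem _ _ (by omega)] at h
  rw [h, hlen, ← Fin.sum_univ_eq_sum_range]
  simp only [Matrix.mulVec, dotProduct, mat, vec, Matrix.of_apply]
  exact Finset.sum_congr rfl fun j _ => mul_comm _ _

theorem appW_spec : ∀ (l : List ℕ), (∀ x ∈ l, x < 12) → ∀ v, Good v →
    Good (appW l v) ∧ vec (appW l v) = (l.map mat).prod *ᵥ vec v := by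
  intro l
  induction l with
  | nil => intro _ v hv; rw [appW_nil]; exact ⟨hv, by rw [List.map_nil, List.prod_nil, Matrix.one_mulVec]⟩
  | cons x r ih =>
    intro hl v hv
    obtain ⟨hg, he⟩ := ih (fun z hz => hl z (List.mem_cons_of_mem _ hz)) v hv
    obtain ⟨hg', he'⟩ := appP_spec (hl x (by simp)) hg
    rw [appW_cons, List.map_cons, List.prod_cons, ← Matrix.mulVec_mulVec, ← he]
    exact ⟨hg', he'⟩

theorem good_unit {j : ℕ} (hj : j < 78) : Good (unit j) ∧ vec (unit j) = Pi.single (⟨j, hj⟩ : Fin 78) 1 := by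
  set L := List.replicate j 0 ++ 1 :: List.replicate (77 - j) 0 with hL
  have key : ∀ k (R : List ℕ), pack (List.replicate k 0 ++ R) = 65536 ^ k * pack R := by
    intro k R
    induction k with
    | zero => simp
    | succ k ih => rw [List.replicate_succ, List.cons_append, pack, ih, pow_succ]; ring
  have hp : pack L = unit j := by
    rw [hL, key, pack, pack_replicate_zero, unit, show (65536 : ℕ) = 2 ^ 16 from rfl, ← pow_mul]
    ring
  have hlen : L.length = 78 := by simp [hL]; omega
  have h13 : ∀ a ∈ L, a < 13 := by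
    intro a ha
    simp only [hL, List.mem_append, List.mem_cons, List.mem_replicate] at ha
    omega
  refine ⟨⟨L, hlen, h13, hp⟩, funext fun i => ?_⟩
  show ((fld (unit j) i : ℕ) : F) = _
  rw [← hp, fld_pack L (fun a ha => lt_trans (h13 a ha) (by omega)) i (by omega),
    List.getD_eq_getElem _ _ (by omega)]
  by_cases h : (i : ℕ) = j
  · rw [Pi.single_apply, if_pos (Fin.ext h)]
    simp [hL, h]
  · rw [Pi.single_apply, if_neg (fun e => h (congrArg Fin.val e))]
    rcases Nat.lt_or_gt_of_ne h with h' | h'
    · simp [hL, List.getElem_append, h']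
    · simp only [hL, List.getElem_append, List.length_replicate, dif_neg (show ¬(i : ℕ) < j by omega)]
      rw [List.getElem_cons, dif_neg (by omega), List.getElem_replicate]
      simp

theorem rel_eq {r : List ℕ × List ℕ} (hr : r ∈ rels) : (r.1.map mat).prod = (r.2.map mat).prod := by
  obtain ⟨h1, h2⟩ : (∀ x ∈ r.1, x < 12) ∧ ∀ x ∈ r.2, x < 12 := by revert r; decide +kernel
  refine Matrix.toLin'.injective (LinearMap.pi_ext' fun j => LinearMap.ext_ring ?_)
  simp only [LinearMap.comp_apply, Matrix.toLin'_apply, LinearMap.single_apply]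
  obtain ⟨hg, he⟩ := good_unit j.2
  rw [← he, ← (appW_spec _ h1 _ hg).2, ← (appW_spec _ h2 _ hg).2]
  congr 1
  have ht : test j = true := by
    have hj := j.2
    by_cases a1 : (j : ℕ) < 13
    · exact allFrom_spec _ _ _ test_0 j (by omega) (by omega)
    by_cases a2 : (j : ℕ) < 26
    · exact allFrom_spec _ _ _ test_13 j (by omega) (by omega)
    by_cases a3 : (j : ℕ) < 39
    · exact allFrom_spec _ _ _ test_26 j (by omega) (by omega)
    by_cases a4 : (j : ℕ) < 52
    · exact allFrom_spec _ _ _ test_39 j (by omega) (by omega)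
    by_cases a5 : (j : ℕ) < 65
    · exact allFrom_spec _ _ _ test_52 j (by omega) (by omega)
    exact allFrom_spec _ _ _ test_65 j (by omega) (by omega)
  unfold test at ht
  have key : ∀ R : List (List ℕ × List ℕ), List.rec (motive := fun _ => Bool) true
      (fun r _ ih => Nat.beq (appW r.1 (unit j)) (appW r.2 (unit j)) && ih) R = true →
      ∀ s ∈ R, appW s.1 (unit j) = appW s.2 (unit j) := by
    intro R
    induction R with
    | nil => simp
    | cons a t ih =>
      intro h s hs
      simp only [Bool.and_eq_true] at h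
      rcases List.mem_cons.mp hs with rfl | hs
      · exact Nat.eq_of_beq_eq_true h.1
      · exact ih h.2 s hs
  exact key _ ht r hr

theorem mat_sq {x : ℕ} (hx : x < 9) : mat x * mat x = 1 := by
  have h := rel_eq (r := ([x, x], [])) ((by decide +kernel : ∀ x < 9, ([x, x], []) ∈ rels) x hx)
  simpa using h

attribute [local irreducible] fld

/-- The matrices in the general linear group. -/
noncomputable def gl (x : ℕ) : GL (Fin 78) F :=
  if h : x < 9 then ⟨mat x, mat x, mat_sq h, mat_sq h⟩ else 1

theorem gl_val {x : ℕ} (hx : x < 9) : (gl x : Matrix (Fin 78) (Fin 78) F) = mat x := by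
  rw [gl, dif_pos hx]

theorem gl_sq (x : ℕ) : gl x * gl x = 1 := by
  by_cases h : x < 9
  · exact Units.ext (by rw [Units.val_mul, gl_val h, Units.val_one]; exact mat_sq h)
  · rw [gl, dif_neg h, one_mul]

theorem gl_prod (l : List ℕ) (hl : ∀ x ∈ l, x < 9) :
    (((l.map gl).prod : GL (Fin 78) F) : Matrix (Fin 78) (Fin 78) F) = (l.map mat).prod := by
  induction l with
  | nil => simp
  | cons x r ih =>
    rw [List.map_cons, List.prod_cons, Units.val_mul, ih fun z hz => hl z (List.mem_cons_of_mem _ hz),
      gl_val (hl x (by simp)), List.map_cons, List.prod_cons]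

theorem gl_out {x : ℕ} (hx : 9 ≤ x) : gl x = 1 := by
  rw [gl, dif_neg (by omega)]

attribute [local irreducible] gl mat

theorem gl_power {x y : List ℕ} {k n : ℕ} (hx : ∀ a ∈ x, a < 9) (h1 : (x, [k]) ∈ rels)
    (h2 : (List.replicate n k, []) ∈ rels) (hy : y = (List.replicate n x).flatten) : (y.map gl).prod = 1 := by
  subst hy
  rw [List.map_flatten, List.map_replicate, List.prod_flatten, List.map_replicate, List.prod_replicate]
  apply Units.ext
  rw [Units.val_pow_eq_pow_val, gl_prod x hx, rel_eq h1, Units.val_one]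
  have := rel_eq h2
  simpa [List.map_replicate, List.prod_replicate] using this

/-- The edges of `Y₃₃₂`. -/
def adj (i j : ℕ) : Bool :=
  decide ((i, j) ∈ [(0, 1), (1, 2), (2, 3), (3, 4), (4, 5), (5, 6), (3, 7), (7, 8)] ∨
    (j, i) ∈ [(0, 1), (1, 2), (2, 3), (3, 4), (4, 5), (5, 6), (3, 7), (7, 8)])

/-- Letters with the defining properties give a homomorphism. -/
theorem exists_hom {M : Type} [Group M] (u : ℕ → M) (hsq : ∀ x, u x * u x = 1) (hout : ∀ x, 9 ≤ x → u x = 1)
    (hbr : ∀ i < 9, ∀ j < 9, adj i j = true → u i * u j * u i = u j * u i * u j)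
    (hcm : ∀ i < 9, ∀ j < 9, i ≠ j → adj i j = false → u i * u j = u j * u i)
    (hA : (((List.replicate 9 [0, 1, 2, 3, 4, 5, 7]).flatten).map u).prod = 1)
    (hB : (((List.replicate 9 [1, 2, 3, 4, 5, 6, 7]).flatten).map u).prod = 1)
    (hS : (((List.replicate 10 [3, 2, 1, 3, 4, 5, 3, 7, 8]).flatten).map u).prod = 1) :
    ∃ φ : Cfsg.Spor.Fi22 →* M, φ (PresentedGroup.of Cfsg.Spor.Fi22.Gen.a) = u 0 := by
  have hcox : ∀ i < 9, ∀ j < 9, (u i * u j) ^ (if i = j then 1 else if adj i j then 3 else 2) = 1 := by
    intro i hi j hj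
    split_ifs with h1 h2
    · rw [pow_one, h1, hsq]
    · calc (u i * u j) ^ 3 = (u i * u j * u i) * (u j * u i * u j) := by
            simp only [pow_succ, pow_zero, one_mul, mul_assoc]
        _ = (u i * u j * u i) * (u i * u j * u i) := by rw [hbr i hi j hj h2]
        _ = u i * (u j * ((u i * u i) * u j)) * u i := by group
        _ = 1 := by rw [hsq, one_mul, hsq, mul_one, hsq]
    · rw [(show Commute (u i) (u j) from hcm i hi j hj h1 (by simpa using h2)).mul_pow, pow_two, pow_two, hsq, hsq,
        one_mul]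
  let φ0 : FreeGroup Cfsg.Spor.Fi22.Gen →* M := FreeGroup.lift fun c => u (Fi22.idx c)
  have hφ0 : ∀ i < 16, φ0 (Fi22.gF i) = u i := by
    intro i hi
    interval_cases i
    all_goals first
      | exact FreeGroup.lift_apply_of
      | (rw [hout _ (by omega)]; exact map_one φ0)
  have hrel : ∀ r ∈ Cfsg.Spor.coxRelators Cfsg.Spor.Fi22.edges ∪ {r | r ∈ Cfsg.Spor.Fi22.extra}, φ0 r = 1 := by
    refine Fi22.translation.relator_eq_one φ0 (fun i hi => ?_) (fun l hl => ?_)
    · rw [hφ0 i hi, hφ0 _ (linv_lt _ _), Fi22.linv_eq i hi]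
      exact (inv_eq_of_mul_eq_one_right (hsq i)).symm
    · rw [List.map_congr_left (fun i hi => hφ0 i ((Fi22.lsWords l hl).1 i hi))]
      rcases (by decide +kernel : ∀ l ∈ Fi22.ls, (∃ i, i < 9 ∧ ∃ j, j < 9 ∧
          l = (List.replicate (if i = j then 1 else if adj i j then 3 else 2) [i, j]).flatten) ∨
          l = (List.replicate 9 [0, 1, 2, 3, 4, 5, 7]).flatten ∨ l = (List.replicate 9 [1, 2, 3, 4, 5, 6, 7]).flatten ∨
          l = (List.replicate 10 [3, 2, 1, 3, 4, 5, 3, 7, 8]).flatten) l hl with
        ⟨i, hi, j, hj, rfl⟩ | rfl | rfl | rfl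
      · rw [List.map_flatten, List.map_replicate, List.prod_flatten, List.map_replicate, List.prod_replicate]
        simpa using hcox i hi j hj
      exacts [hA, hB, hS]
  exact ⟨PresentedGroup.toGroup hrel, (PresentedGroup.toGroup.of hrel).trans rfl⟩

theorem gl_braid : ∀ i < 9, ∀ j < 9, adj i j = true → gl i * gl j * gl i = gl j * gl i * gl j := by
  intro i hi j hj h
  apply Units.ext
  rw [Units.val_mul, Units.val_mul, Units.val_mul, Units.val_mul, gl_val hi, gl_val hj]
  rcases ((by decide +kernel : ∀ i < 9, ∀ j < 9, adj i j = true →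
      ([i, j, i], [j, i, j]) ∈ rels ∨ ([j, i, j], [i, j, i]) ∈ rels) i hi j hj h) with h | h
  · simpa only [List.map_cons, List.map_nil, List.prod_cons, List.prod_nil, mul_one, mul_assoc] using rel_eq h
  · simpa only [List.map_cons, List.map_nil, List.prod_cons, List.prod_nil, mul_one, mul_assoc] using (rel_eq h).symm

theorem gl_comm : ∀ i < 9, ∀ j < 9, i ≠ j → adj i j = false → gl i * gl j = gl j * gl i := by
  intro i hi j hj hne h
  apply Units.ext
  rw [Units.val_mul, Units.val_mul, gl_val hi, gl_val hj]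
  rcases ((by decide +kernel : ∀ i < 9, ∀ j < 9, i = j ∨ adj i j = true ∨
      ([i, j], [j, i]) ∈ rels ∨ ([j, i], [i, j]) ∈ rels) i hi j hj) with h' | h' | h' | h'
  · exact absurd h' hne
  · rw [h] at h'; exact absurd h' (by decide)
  · simpa only [List.map_cons, List.map_nil, List.prod_cons, List.prod_nil, mul_one] using rel_eq h'
  · simpa only [List.map_cons, List.map_nil, List.prod_cons, List.prod_nil, mul_one] using (rel_eq h').symm

theorem exists_embedding : ∃ f : Cfsg.Spor.Fi22 →* GL (Fin 78) F, Function.Injective f := by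
  obtain ⟨φ, hφa⟩ := exists_hom (M := GL (Fin 78) F) gl (fun x => by simp only [gl_sq])
    (fun x hx => gl_out hx) gl_braid gl_comm
    (gl_power (k := 9) (by decide) (by decide +kernel) (by decide +kernel) rfl)
    (gl_power (k := 10) (by decide) (by decide +kernel) (by decide +kernel) rfl)
    (gl_power (k := 11) (by decide) (by decide +kernel) (by decide +kernel) rfl)
  refine ⟨φ, ?_⟩
  haveI := Fi22.Simple.isSimple
  rw [← MonoidHom.ker_eq_bot_iff]
  rcases (inferInstance : φ.ker.Normal).eq_bot_or_eq_top with h | h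
  · exact h
  · exfalso
    have h1 : φ (PresentedGroup.of Cfsg.Spor.Fi22.Gen.a) = 1 := by
      rw [← MonoidHom.mem_ker, h]; exact Subgroup.mem_top _
    rw [hφa] at h1
    have h2 : mat 0 = 1 := by
      have h3 := congrArg Units.val h1
      rwa [gl_val (show 0 < 9 by omega), Units.val_one] at h3
    obtain ⟨hg, he⟩ := good_unit (show 0 < 78 by omega)
    have h4 := (appP_spec (show 0 < 12 by omega) hg).2
    rw [h2, Matrix.one_mulVec] at h4
    obtain ⟨hlen, hcols⟩ := good_col m0_mem
    obtain ⟨L, hl, hL, hp⟩ := hcols (m0.getD 0 0) (by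
      rw [List.getD_eq_getElem _ _ (by omega)]; exact List.getElem_mem _)
    obtain ⟨U, hUl, hU, hUp⟩ := hg
    have h5 : ∀ i : Fin 78, ((fld (m0.getD 0 0) i : ℕ) : F) = ((fld (unit 0) i : ℕ) : F) := by
      intro i
      have h6 := congrFun (congrArg (fun A : Matrix (Fin 78) (Fin 78) F => A i) h2) (0 : Fin 78)
      have h7 := congrFun he i
      simp only [vec] at h7
      rw [h7]
      simp only [mat, Matrix.of_apply, Fin.val_zero] at h6
      rw [mats_zero] at h6
      simpa [Matrix.one_apply, Pi.single_apply] using h6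
    have hLU : L = U := by
      refine List.ext_getElem (hl.trans hUl.symm) fun i h1 h2 => ?_
      have := h5 ⟨i, by omega⟩
      rw [← hp, ← hUp, fld_pack L (fun a ha => lt_trans (hL a ha) (by omega)) i h1,
        fld_pack U (fun a ha => lt_trans (hU a ha) (by omega)) i h2, List.getD_eq_getElem _ _ h1,
        List.getD_eq_getElem _ _ h2, ZMod.natCast_eq_natCast_iff', Nat.mod_eq_of_lt (hL _ (List.getElem_mem _)),
        Nat.mod_eq_of_lt (hU _ (List.getElem_mem _))] at this
      exact this
    have h8 := entry_ne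
    rw [← hp, ← hUp, hLU] at h8
    simp at h8

end CfsgLib.Fi22Rep
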